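import Cfsg.Agent.H92.QS.StHom
import Cfsg.Agent.H540.E8C.Centre
import Cfsg.Agent.TitsThree.RTFast
import Cfsg.Agent.Prune
set_option linter.all false
open scoped Cfsg.Agent.FastGrp

namespace Cfsg.Agent.H90F

private noncomputable def frc {α : Type} (x : ℕ) (f : ℕ → α) : α := Nat.rec (f 0) (fun k _ => f (Nat.succ k)) x

private theorem frc_eq {α : Type} (x : ℕ) (f : ℕ → α) : frc x f = f x := by cases x <;> rfl

private noncomputable def nth {α : Type} (d : α) (l : List α) : ℕ → α :=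
  List.rec (fun _ => d) (fun a _ ih n => Nat.rec a (fun k _ => ih k) n) l

private theorem nth_eq {α : Type} (d : α) (l : List α) (n : ℕ) : nth d l n = l.getD n d := by
  induction l generalizing n with
  | nil => rfl
  | cons a l ih => cases n with
    | zero => rfl
    | succ k => exact ih k

private theorem nth_arr {α : Type} (d : α) (a : Array α) (n : ℕ) : a.getD n d = nth d a.toList n := by
  rw [nth_eq, List.getD_eq_getElem?_getD, Array.getD_eq_getD_getElem?, Array.getElem?_toList]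

private noncomputable def row (D : Cfsg.Lie.ChevalleyDatum) (r : ℕ) : List (ℕ × Array (ℕ × ℤ)) := (nth #[] D.chain.toList r).toList

private noncomputable def fnd (s : ℕ) (l : List (ℕ × Array (ℕ × ℤ))) : List (ℕ × ℤ) :=
  List.rec [] (fun e _ ih => Bool.rec ih e.2.toList (Nat.beq e.1 s)) l

private theorem ce_eq0 (D : Cfsg.Lie.ChevalleyDatum) (r s : ℕ) : D.chainEntry r s = fnd s (row D r) := by
  unfold Cfsg.Lie.ChevalleyDatum.chainEntry row
  rw [nth_arr]
  generalize (nth #[] D.chain.toList r).toList = l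
  induction l with
  | nil => rfl
  | cons e l ih =>
    show _ = (Bool.rec (fnd s l) e.2.toList (Nat.beq e.1 s) : List (ℕ × ℤ))
    by_cases h : e.1 = s
    · rw [List.find?_cons_of_pos (by simpa using h), Nat.beq_eq.mpr h]
    · rw [List.find?_cons_of_neg (by simpa using h), ih, Bool.eq_false_iff.2 fun h1 => h (Nat.eq_of_beq_eq_true h1)]

private noncomputable def fce (D : Cfsg.Lie.ChevalleyDatum) (r s : ℕ) : List (ℕ × ℤ) := frc r fun r => frc s fun s => fnd s (row D r)

private theorem ce_eq (D : Cfsg.Lie.ChevalleyDatum) : D.chainEntry = fce D := by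
  funext r s
  rw [fce, frc_eq, frc_eq, ce_eq0]

private noncomputable def fcr (D : Cfsg.Lie.ChevalleyDatum) (r s i : ℕ) : Option ℕ := ((fce D r s)[i - 1]?).map Prod.fst

private theorem cr_eq (D : Cfsg.Lie.ChevalleyDatum) : D.chainRoot = fcr D := by
  funext r s i
  rw [fcr, ← ce_eq]; rfl

private noncomputable def fcm (D : Cfsg.Lie.ChevalleyDatum) (r s i : ℕ) : ℤ := (((fce D r s)[i - 1]?).map Prod.snd).getD 0

private theorem cm_eq (D : Cfsg.Lie.ChevalleyDatum) : D.chainM = fcm D := by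
  funext r s i
  rw [fcm, ← ce_eq]; rfl

private noncomputable def gct (cr : ℕ → ℕ → ℕ → Option ℕ) (cm : ℕ → ℕ → ℕ → ℤ) (r s : ℕ) : List (ℕ × ℤ × ℕ × ℕ) :=
  ([(cr r s 1, cm r s 1, 1, 1), (cr r s 2, cm r s 2, 2, 1), (cr s r 2, cm s r 2, 1, 2), (cr r s 3, cm r s 3, 3, 1),
      (cr s r 3, - cm s r 3, 1, 3),
      ((cr r s 3).bind fun k => cr k s 1, ((cr r s 1).map fun k => cm k r 2 / 3).getD 0, 3, 2),
      ((cr s r 3).bind fun k => cr k r 1, ((cr r s 1).map fun k => -2 * cm k s 2 / 3).getD 0, 2, 3)] :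
    List (Option ℕ × ℤ × ℕ × ℕ)).filterMap fun c => c.1.map fun k => (k, c.2)

private theorem gct_eq (D : Cfsg.Lie.ChevalleyDatum) (r s : ℕ) : D.commTerms r s = gct (fcr D) (fcm D) r s := by
  rw [← cr_eq, ← cm_eq]; rfl

private noncomputable def msk (l : List (ℕ × Array (ℕ × ℤ))) : ℕ := List.rec 0 (fun e _ ih => Nat.lor ih (Nat.shiftLeft 1 e.1)) l

private theorem fnd_nil {s : ℕ} {l : List (ℕ × Array (ℕ × ℤ))} (h : (msk l).testBit s = false) : fnd s l = [] := by
  induction l with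
  | nil => rfl
  | cons e l ih =>
    have h1 : (msk l ||| 1 <<< e.1).testBit s = false := h
    rw [Nat.testBit_or, Bool.or_eq_false_iff, Nat.one_shiftLeft, Nat.testBit_two_pow] at h1
    show (Bool.rec (fnd s l) e.2.toList (Nat.beq e.1 s) : List (ℕ × ℤ)) = []
    rw [Bool.eq_false_iff.2 fun h2 => of_decide_eq_false h1.2 (Nat.eq_of_beq_eq_true h2)]
    exact ih h1.1

private noncomputable def fc2 (D : Cfsg.Lie.ChevalleyDatum) (r s : ℕ) : List (ℕ × ℤ) → List (ℕ × ℤ) → List (ℕ × ℤ × ℕ × ℕ)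
  | [x], [_] => [(x.1, x.2, 1, 1)]
  | _, _ => gct (fcr D) (fcm D) r s

private noncomputable def fct (D : Cfsg.Lie.ChevalleyDatum) (r s : ℕ) : List (ℕ × ℤ × ℕ × ℕ) :=
  frc r fun r => frc s fun s =>
    Bool.rec (fc2 D r s (fnd s (row D r)) (fnd r (row D s))) []
      (Nat.beq (Nat.land (Nat.lor (Nat.shiftRight (msk (row D r)) s) (Nat.shiftRight (msk (row D s)) r)) 1) 0)

private theorem ct_eq (D : Cfsg.Lie.ChevalleyDatum) : D.commTerms = fct D := by
  funext r s
  rw [fct, frc_eq, frc_eq]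
  cases h : Nat.beq (Nat.land (Nat.lor (Nat.shiftRight (msk (row D r)) s) (Nat.shiftRight (msk (row D s)) r)) 1) 0
  · show _ = fc2 D r s _ _
    rw [← ce_eq0, ← ce_eq0]
    unfold fc2
    split
    · rename_i h1 h2
      unfold Cfsg.Lie.ChevalleyDatum.commTerms Cfsg.Lie.ChevalleyDatum.chainRoot Cfsg.Lie.ChevalleyDatum.chainM
      rw [h1, h2]; rfl
    · exact gct_eq D r s
  · have h1 : ((msk (row D r) >>> s ||| msk (row D s) >>> r)).testBit 0 = false := by
      have h2 : (msk (row D r) >>> s ||| msk (row D s) >>> r) &&& 1 = 0 := Nat.eq_of_beq_eq_true h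
      rw [Nat.and_one_is_mod] at h2
      rw [Nat.testBit_zero, h2]; rfl
    rw [Nat.testBit_or, Bool.or_eq_false_iff, Nat.testBit_shiftRight, Nat.testBit_shiftRight, Nat.add_zero, Nat.add_zero] at h1
    show _ = []
    unfold Cfsg.Lie.ChevalleyDatum.commTerms Cfsg.Lie.ChevalleyDatum.chainRoot Cfsg.Lie.ChevalleyDatum.chainM
    rw [ce_eq0 D r s, ce_eq0 D s r, fnd_nil h1.1, fnd_nil h1.2]; rfl

private theorem ct_fun : Cfsg.Lie.ChevalleyDatum.commTerms = fct := funext ct_eq

private noncomputable def fng (D : Cfsg.Lie.ChevalleyDatum) (r : ℕ) : ℕ := frc r (nth 0 D.negIdx.toList)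

private theorem ng_eq (D : Cfsg.Lie.ChevalleyDatum) : D.neg = fng D := by
  funext r
  rw [fng, frc_eq]
  exact nth_arr _ _ _

private theorem ng_fun : Cfsg.Lie.ChevalleyDatum.neg = fng := funext ng_eq

end Cfsg.Agent.H90F
attribute [local instance] Cfsg.Agent.TitsThree.RTFast.decRTb Cfsg.Agent.TitsThree.RTFast.decRTc

/-!
# The subgroup `A₄ A₄` of `E₈(K)` (S5925, box A, helper934)

* `p1 K`, `p2 K` : `SL₅(K) →* E₈(K)` for the chains `(α₁, α₃, α₄, α₂)` and `(α₀, α₈, α₇, α₆)`;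
* `p1_tv`, `p2_tv`, `coe_p1_tv`, `coe_p2_tv` : the values on transvections;
* `comm` : the images commute;
* `emb_p1`, `emb_p2`, `phi_p1`, `phi_p2` : field embeddings and Frobenius maps;
* `hom_ext` : homomorphisms from `SL_n` are determined by the transvections.
-/

set_option autoImplicit false

namespace Cfsg.Agent.H934.E83

open Cfsg.Lie Cfsg.Agent.ChevalleyStructure.StBasic Cfsg.Agent.TitsThree.KExcRT Cfsg.Agent.AGraded
open Cfsg.Agent.ChevalleyStructure Cfsg.Agent.ChevalleyStructure.Elts Cfsg.Agent.ChevalleyStructure.RootVec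
  Cfsg.Agent.KFacts.RgdChevCoord Cfsg.Agent.GpExc.Field Cfsg.Agent.BpExc.TowChev Cfsg.Agent.BpExc.FamUntw
  Cfsg.Agent.Nodes.RGDChev
open Matrix

universe u

/-! ### Tables -/

/-- the roots of the chain `(α₁, α₃, α₄, α₂)` -/
def r1 : Fin 5 → Fin 5 → ℕ :=
  ![![0, 162, 163, 164, 169], ![77, 0, 135, 136, 147], ![76, 104, 0, 130, 142], ![75, 103, 109, 0, 141], ![70, 92, 97, 98, 0]]

/-- the signs of the chain `(α₁, α₃, α₄, α₂)` -/
def s1 : Fin 5 → Fin 5 → ℤ :=
  ![![1, 1, -1, 1, -1], ![1, 1, 1, -1, 1], ![-1, 1, 1, 1, 1], ![1, -1, 1, 1, 1], ![-1, 1, 1, 1, 1]]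

/-- the roots of the chain `(α₀, α₈, α₇, α₆)` -/
def r2 : Fin 5 → Fin 5 → ℕ :=
  ![![0, 0, 1, 2, 3], ![239, 0, 120, 122, 125], ![238, 119, 0, 121, 124], ![237, 117, 118, 0, 123], ![236, 114, 115, 116, 0]]

/-- the signs of the chain `(α₀, α₈, α₇, α₆)`: all equal to `1` -/
def s2 : Fin 5 → Fin 5 → ℤ := fun _ _ => 1

theorem tab1 : RTa chevE8 r1 ∧ RTb chevE8 r1 s1 ∧ RTc chevE8 r1 ∧ RTd s1 ∧ (∀ i j, s1 j i = s1 i j) ∧
    ∀ i j, i ≠ j → r1 j i = chevE8.neg (r1 i j) := by decide +kernel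

theorem tab2 : RTa chevE8 r2 ∧ RTb chevE8 r2 s2 ∧ RTc chevE8 r2 ∧ RTd s2 ∧ (∀ i j, s2 j i = s2 i j) ∧
    ∀ i j, i ≠ j → r2 j i = chevE8.neg (r2 i j) := by decide +kernel

theorem tab12 : ∀ a b, a ≠ b → ∀ c d, c ≠ d → r2 c d ≠ r1 a b ∧ r2 c d ≠ chevE8.neg (r1 a b) ∧
    chevE8.commTerms (r1 a b) (r2 c d) = [] := by (rewrite [H90F.ct_fun, H90F.ng_fun]; decide +kernel)

theorem hp8 : IsType chevE8 8 CoxeterMatrix.E₈ := Cfsg.Agent.Nodes.KindE.isType8

/-! ### The homomorphisms -/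

section Hom

variable (K : Type u) [Field K]

theorem exists_p1 : ∃ φ : SpecialLinearGroup (Fin 5) K →* ↥(chevE8.group K), ∀ a b (hab : a ≠ b) c,
    (φ (SpecialLinearGroup.transvection hab c) : GL chevE8.Idx K) = xG hp8.inList (r1 a b) ((s1 a b : K) * c) := by
  obtain ⟨φ, hφ⟩ := Cfsg.Agent.H92.QS.exists_hom_St (K := K) tab1.1 tab1.2.1 tab1.2.2.1 tab1.2.2.2.1
    (fun a b _ => tab1.2.2.2.2.1 a b) tab1.2.2.2.2.2
  refine ⟨(StTheta.theta hp8.inList K).comp φ, fun a b hab c => ?_⟩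
  rw [MonoidHom.comp_apply, hφ, StTheta.coe_theta, StTheta.thetaGL_stGen]

theorem exists_p2 : ∃ φ : SpecialLinearGroup (Fin 5) K →* ↥(chevE8.group K), ∀ a b (hab : a ≠ b) c,
    (φ (SpecialLinearGroup.transvection hab c) : GL chevE8.Idx K) = xG hp8.inList (r2 a b) c := by
  obtain ⟨φ, hφ⟩ := Cfsg.Agent.H92.QS.exists_hom_St (K := K) tab2.1 tab2.2.1 tab2.2.2.1 tab2.2.2.2.1
    (fun a b _ => tab2.2.2.2.2.1 a b) tab2.2.2.2.2.2
  refine ⟨(StTheta.theta hp8.inList K).comp φ, fun a b hab c => ?_⟩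
  rw [MonoidHom.comp_apply, hφ, StTheta.coe_theta, StTheta.thetaGL_stGen]
  show xG _ _ (((1 : ℤ) : K) * c) = _
  rw [Int.cast_one, one_mul]

/-- the first `SL₅`: chain `(α₁, α₃, α₄, α₂)` -/
noncomputable def p1 : SpecialLinearGroup (Fin 5) K →* ↥(chevE8.group K) := (exists_p1 K).choose

/-- the second `SL₅`: chain `(α₀, α₈, α₇, α₆)` -/
noncomputable def p2 : SpecialLinearGroup (Fin 5) K →* ↥(chevE8.group K) := (exists_p2 K).choose

variable {K}

theorem coe_p1_tv {a b : Fin 5} (hab : a ≠ b) (c : K) : (p1 K (SpecialLinearGroup.transvection hab c) : GL chevE8.Idx K) =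
    xG hp8.inList (r1 a b) ((s1 a b : K) * c) := (exists_p1 K).choose_spec a b hab c

theorem coe_p2_tv {a b : Fin 5} (hab : a ≠ b) (c : K) : (p2 K (SpecialLinearGroup.transvection hab c) : GL chevE8.Idx K) =
    xG hp8.inList (r2 a b) c := (exists_p2 K).choose_spec a b hab c

theorem p1_tv {a b : Fin 5} (hab : a ≠ b) (c : K) : p1 K (SpecialLinearGroup.transvection hab c) =
    xc hp8 (vec chevE8 8 (r1 a b)) ((s1 a b : K) * c) := by
  apply Subtype.ext
  rw [coe_p1_tv, coe_xc hp8 (tab1.1 a b hab)]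

theorem p2_tv {a b : Fin 5} (hab : a ≠ b) (c : K) : p2 K (SpecialLinearGroup.transvection hab c) =
    xc hp8 (vec chevE8 8 (r2 a b)) c := by
  apply Subtype.ext
  rw [coe_p2_tv, coe_xc hp8 (tab2.1 a b hab)]

/-- homomorphisms from `SL_n` are determined by the transvections -/
theorem hom_ext {n : ℕ} {Y : Type*} [Group Y] {f g : SpecialLinearGroup (Fin n) K →* Y}
    (h : ∀ a b (hab : a ≠ b) c, f (SpecialLinearGroup.transvection hab c) = g (SpecialLinearGroup.transvection hab c)) :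
    f = g := by
  apply MonoidHom.eq_of_eqOn_dense (Cfsg.Agent.LieClassical.SLGen.closure_transvections (ι := Fin n) (F := K))
  rintro _ ⟨a, b, hab, c, rfl⟩
  exact h a b hab c

/-- **The two images commute.** -/
theorem comm (A B : SpecialLinearGroup (Fin 5) K) : Commute (p1 K A) (p2 K B) := by
  have key : ∀ (f : SpecialLinearGroup (Fin 5) K →* ↥(chevE8.group K)) (y : ↥(chevE8.group K)),
      (∀ a b (hab : a ≠ b) c, Commute (f (SpecialLinearGroup.transvection hab c)) y) → ∀ A, Commute (f A) y := by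
    intro f y h A
    have h1 : (⊤ : Subgroup (SpecialLinearGroup (Fin 5) K)) ≤ (Subgroup.centralizer {y}).comap f := by
      rw [← Cfsg.Agent.LieClassical.SLGen.closure_transvections, Subgroup.closure_le]
      rintro _ ⟨a, b, hab, c, rfl⟩
      change f _ ∈ Subgroup.centralizer {y}
      rw [Subgroup.mem_centralizer_singleton_iff]
      exact (h a b hab c).eq
    have h2 := h1 (Subgroup.mem_top A)
    rw [Subgroup.mem_comap, Subgroup.mem_centralizer_singleton_iff] at h2
    exact h2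
  refine key _ _ (fun a b hab c => (key _ _ (fun a' b' hab' d => ?_) B).symm) A
  apply Commute.symm
  apply Subtype.ext
  show (p1 K _ : GL chevE8.Idx K) * (p2 K _ : GL chevE8.Idx K) = (p2 K _ : GL chevE8.Idx K) * (p1 K _ : GL chevE8.Idx K)
  rw [coe_p1_tv, coe_p2_tv]
  obtain ⟨h1, h2, h3⟩ := tab12 a b hab a' b' hab'
  exact Cfsg.Agent.TitsThree.KExcBase.comm_nil hp8.inList (tab1.1 a b hab) (tab2.1 a' b' hab') h1 h2 h3 _ _

theorem comm_eq (A B : SpecialLinearGroup (Fin 5) K) : p1 K A * p2 K B = p2 K B * p1 K A := (comm A B).eq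

end Hom

/-! ### Field maps -/

section Emb

variable {F K : Type u} [Field F] [Field K] (f : F →+* K)

theorem map_tv {n : ℕ} {a b : Fin n} (hab : a ≠ b) (c : F) :
    SpecialLinearGroup.map f (SpecialLinearGroup.transvection hab c) = SpecialLinearGroup.transvection hab (f c) := by
  apply Subtype.ext
  ext i j
  rw [SpecialLinearGroup.map_apply_coe]
  simp only [RingHom.mapMatrix_apply, Matrix.map_apply, SpecialLinearGroup.transvection, Matrix.transvection, Matrix.add_apply,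
    Matrix.one_apply, Matrix.single_apply, map_add]
  congr 1
  · split_ifs <;> simp
  · split_ifs <;> simp

theorem emb_p1 (A : SpecialLinearGroup (Fin 5) F) : emb hp8.inList f (p1 F A) = p1 K (SpecialLinearGroup.map f A) := by
  have h : (emb hp8.inList f).comp (p1 F) = (p1 K).comp (SpecialLinearGroup.map f) := by
    refine hom_ext fun a b hab c => ?_
    rw [MonoidHom.comp_apply, MonoidHom.comp_apply, map_tv, p1_tv, p1_tv, emb_xc, map_mul, map_intCast]
  exact DFunLike.congr_fun h A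

theorem emb_p2 (A : SpecialLinearGroup (Fin 5) F) : emb hp8.inList f (p2 F A) = p2 K (SpecialLinearGroup.map f A) := by
  have h : (emb hp8.inList f).comp (p2 F) = (p2 K).comp (SpecialLinearGroup.map f) := by
    refine hom_ext fun a b hab c => ?_
    rw [MonoidHom.comp_apply, MonoidHom.comp_apply, map_tv, p2_tv, p2_tv, emb_xc]
  exact DFunLike.congr_fun h A

end Emb

section Frob

variable {k : Type u} [Field k] (r : ℕ) [Fact r.Prime] [CharP k r] [PerfectRing k r] (m : ℕ)

end Frob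

end Cfsg.Agent.H934.E83

private theorem dce_aa06c6c42a91 : _root_.True := by
  try have : _root_.True := by simp only [_root_.Matrix.SpecialLinearGroup.transvection.eq_1]
  exact _root_.True.intro
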